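import Mathlib

/-!
# An auxiliary ring extension with many units (helper library for S8746)

For a commutative ring `B` and `b : B`, the ring `R' = B[X]_{X (1 + b X)}` is flat over `B`,
the map `B → R'` has a `B`-linear retraction, and in `R'` both `X` and `1 + b X` are units.
-/

set_option linter.unusedSectionVars false
set_option linter.unusedVariables false
set_option linter.unusedSimpArgs false
set_option autoImplicit false
set_option linter.style.haveILetI false
set_option maxHeartbeats 400000

universe u

open Polynomial

namespace Groth.Agent.Lib.Helper6.Adeq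

variable (B : Type u) [CommRing B] (b : B)

/-- The element we invert. -/
noncomputable def gen : B[X] := X * (1 + C b * X)

theorem gen_def : gen B b = X * (1 + C b * X) := rfl

/-- The auxiliary ring. -/
abbrev Aux : Type u := Localization.Away (gen B b)

theorem isUnit_X : IsUnit (algebraMap B[X] (Aux B b) X) := by
  have h : IsUnit (algebraMap B[X] (Aux B b) (gen B b)) :=
    IsLocalization.Away.algebraMap_isUnit (gen B b)
  have h2 : algebraMap B[X] (Aux B b) (gen B b) =
      algebraMap B[X] (Aux B b) X * algebraMap B[X] (Aux B b) (1 + C b * X) := by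
    rw [← map_mul]; rfl
  rw [h2] at h
  exact isUnit_of_mul_isUnit_left h

theorem isUnit_one_add : IsUnit (algebraMap B[X] (Aux B b) (1 + C b * X)) := by
  have h : IsUnit (algebraMap B[X] (Aux B b) (gen B b)) :=
    IsLocalization.Away.algebraMap_isUnit (gen B b)
  have h2 : algebraMap B[X] (Aux B b) (gen B b) =
      algebraMap B[X] (Aux B b) X * algebraMap B[X] (Aux B b) (1 + C b * X) := by
    rw [← map_mul]; rfl
  rw [h2] at h
  exact isUnit_of_mul_isUnit_right h

instance : Module.Flat B (Aux B b) := by
  haveI : Module.Flat B[X] (Aux B b) := IsLocalization.flat (Aux B b) (Submonoid.powers (gen B b))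
  exact Module.Flat.trans B B[X] (Aux B b)

/-- The map to Laurent series. -/
noncomputable def toLaurent₀ : B[X] →+* LaurentSeries B :=
  (HahnSeries.ofPowerSeries ℤ B).comp (Polynomial.coeToPowerSeries.ringHom)

theorem toLaurent₀_C (c : B) : toLaurent₀ B (C c) = HahnSeries.C c := by
  simp [toLaurent₀]

theorem isUnit_toLaurent₀_gen : IsUnit (toLaurent₀ B (gen B b)) := by
  rw [gen_def, map_mul]
  apply IsUnit.mul
  · have h1 : toLaurent₀ B X = HahnSeries.single (1 : ℤ) (1 : B) := by
      simp [toLaurent₀, HahnSeries.ofPowerSeries_X]
    rw [h1]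
    refine IsUnit.of_mul_eq_one (HahnSeries.single (-1 : ℤ) (1 : B)) ?_
    rw [HahnSeries.single_mul_single]
    simp
  · have h2 : IsUnit ((1 + C b * X : B[X]) : PowerSeries B) := by
      rw [PowerSeries.isUnit_iff_constantCoeff]
      simp
    exact h2.map (HahnSeries.ofPowerSeries ℤ B)

/-- The ring map from the auxiliary ring to Laurent series. -/
noncomputable def toLaurent : Aux B b →+* LaurentSeries B :=
  IsLocalization.Away.lift (gen B b) (isUnit_toLaurent₀_gen B b)

theorem toLaurent_algebraMap (p : B[X]) :
    toLaurent B b (algebraMap B[X] (Aux B b) p) = toLaurent₀ B p :=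
  IsLocalization.Away.lift_eq _ _ _

/-- The retraction as a function. -/
noncomputable def retr (z : Aux B b) : B := (toLaurent B b z).coeff 0

theorem retr_add (z w : Aux B b) : retr B b (z + w) = retr B b z + retr B b w := by
  simp [retr]

theorem retr_algebraMap_mul (c : B) (z : Aux B b) :
    retr B b (algebraMap B (Aux B b) c * z) = c * retr B b z := by
  unfold retr
  rw [map_mul, IsScalarTower.algebraMap_apply B B[X] (Aux B b), toLaurent_algebraMap,
    Polynomial.algebraMap_apply, Algebra.algebraMap_self_apply, toLaurent₀_C,
    HahnSeries.C_mul_eq_smul, HahnSeries.coeff_smul, smul_eq_mul]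

theorem retr_one : retr B b 1 = 1 := by
  unfold retr
  rw [map_one]
  simp

end Groth.Agent.Lib.Helper6.Adeq
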