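import Mathlib
import Groth.Prelude.Def_Adeq
import Groth.Agent.Lib.Helper6.Adeq.AuxRing

/-!
# Additive unit-equivariant transformations of module-valued functors are linear (S8746)
-/

set_option linter.unusedSectionVars false
set_option linter.unusedVariables false
set_option linter.unusedSimpArgs false
set_option autoImplicit false
set_option linter.style.haveILetI false
set_option maxHeartbeats 400000

universe u v

open CategoryTheory Limits TensorProduct Polynomial

namespace Groth.Agent.Lib.Helper6.Adeq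

section Tensor

open ChangeOfRings

variable (B : Type u) [CommRing B] (b : B)

/-- The retraction as a linear map for the module structure used by `extendScalars`. -/
noncomputable def retrLin :
    @LinearMap B B _ _ (RingHom.id B) (Aux B b) B _ _
      (Module.compHom (Aux B b) (algebraMap B (Aux B b))) _ :=
  letI : Module B (Aux B b) := Module.compHom (Aux B b) (algebraMap B (Aux B b))
  { toFun := retr B b
    map_add' := retr_add B b
    map_smul' := fun c z => retr_algebraMap_mul B b c z }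

theorem eq_zero_of_one_tmul_eq_zero (M : ModuleCat.{v} B) (y : M)
    (h : ((1 : Aux B b) ⊗ₜ[B, algebraMap B (Aux B b)] y :
      (ModuleCat.extendScalars (algebraMap B (Aux B b))).obj M) = 0) : y = 0 := by
  letI m1 : Module B (Aux B b) := Module.compHom (Aux B b) (algebraMap B (Aux B b))
  let L : @TensorProduct B _ (Aux B b) M _ _ m1 _ →ₗ[B] M :=
    TensorProduct.lift ((LinearMap.lsmul B M).comp (retrLin B b))
  have h1 : L ((1 : Aux B b) ⊗ₜ[B] y) = y := by
    rw [TensorProduct.lift.tmul]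
    show retr B b 1 • y = y
    rw [retr_one, one_smul]
  have h2 : L ((1 : Aux B b) ⊗ₜ[B] y) = 0 := by
    have : ((1 : Aux B b) ⊗ₜ[B] y : @TensorProduct B _ (Aux B b) M _ _ m1 _) = 0 := h
    rw [this, map_zero]
  rw [← h1, h2]

end Tensor

end Groth.Agent.Lib.Helper6.Adeq

namespace Groth.Agent.Lib.Helper6.Adeq

open ChangeOfRings

variable {A : Type u} [CommRing A]

/-- The auxiliary algebra as an object. -/
noncomputable abbrev auxObj (B : Adeq.Alg A) (b : B) : Adeq.Alg A := Adeq.algOf A (Aux B b)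

/-- The structure map as a morphism. -/
noncomputable def auxHom (B : Adeq.Alg A) (b : B) : B ⟶ auxObj B b :=
  CommAlgCat.ofHom (IsScalarTower.toAlgHom A B (Aux B b))

theorem auxHom_toRingHom (B : Adeq.Alg A) (b : B) :
    (auxHom B b).hom.toRingHom = algebraMap B (Aux B b) := rfl

theorem auxHom_flat (B : Adeq.Alg A) (b : B) : (auxHom B b).hom.toRingHom.Flat := by
  rw [auxHom_toRingHom]
  exact RingHom.flat_algebraMap_iff.mpr inferInstance

theorem bc_one_tmul (G : Adeq.MVF A) {B B' : Adeq.Alg A} (f : B ⟶ B') (y : G.obj (Adeq.pt B)) :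
    (G.bc f) ((1 : B') ⊗ₜ[B, f.hom.toRingHom] y) = G.map (Adeq.ptHom f) y := by
  have h := ModuleCat.extendRestrictScalarsAdj_homEquiv_apply.{u + 1, u, u} (G.bc f) y
  have h2 : ((ModuleCat.extendRestrictScalarsAdj.{u + 1, u, u} f.hom.toRingHom).homEquiv
      (G.obj (Adeq.pt B)) (G.obj (Adeq.pt B'))) (G.bc f) = G.map (Adeq.ptHom f) := by
    unfold Adeq.MVF.bc
    exact Equiv.apply_symm_apply _ _
  rw [h2] at h
  exact h.symm

theorem map_injective_aux (G : Adeq.MVF A) (B : Adeq.Alg A) (b : B)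
    (hiso : IsIso (G.bc (auxHom B b))) :
    Function.Injective (G.map (Adeq.ptHom (auxHom B b))) := by
  have hadd : ∀ y₁ y₂ : G.obj (Adeq.pt B), G.map (Adeq.ptHom (auxHom B b)) (y₁ - y₂) =
      G.map (Adeq.ptHom (auxHom B b)) y₁ - G.map (Adeq.ptHom (auxHom B b)) y₂ := fun y₁ y₂ =>
    map_sub _ _ _
  intro y₁ y₂ h
  have h0 : G.map (Adeq.ptHom (auxHom B b)) (y₁ - y₂) = 0 := by rw [hadd, h, sub_self]
  rw [← bc_one_tmul] at h0
  have hinj : Function.Injective (G.bc (auxHom B b)) :=
    (ConcreteCategory.bijective_of_isIso (G.bc (auxHom B b))).injective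
  have h1 : ((1 : Aux B b) ⊗ₜ[B, (auxHom B b).hom.toRingHom] (y₁ - y₂) :
      (ModuleCat.extendScalars (auxHom B b).hom.toRingHom).obj (G.obj (Adeq.pt B))) = 0 := by
    apply hinj
    exact h0.trans (map_zero (G.bc (auxHom B b)).hom).symm
  have h2 := eq_zero_of_one_tmul_eq_zero B b (G.obj (Adeq.pt B)) (y₁ - y₂) h1
  exact sub_eq_zero.mp h2

end Groth.Agent.Lib.Helper6.Adeq

namespace Groth.Agent.Lib.Helper6.Adeq

variable {A : Type u} [CommRing A]

theorem map_smul' (F : Adeq.MVF A) {B B' : Adeq.Alg A} (f : B ⟶ B') (c : B)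
    (x : F.obj (Adeq.pt B)) :
    F.map (Adeq.ptHom f) (c • x) = (f.hom c : B') • F.map (Adeq.ptHom f) x :=
  PresheafOfModules.map_smul F (Adeq.ptHom f) c x

theorem smul_comm_main (F G : Adeq.MVF A)
    (φ : ∀ B : Adeq.Alg A, F.obj (Adeq.pt B) → G.obj (Adeq.pt B))
    (hnat : ∀ ⦃B B' : Adeq.Alg A⦄ (f : B ⟶ B') (x : F.obj (Adeq.pt B)),
      φ B' (F.map (Adeq.ptHom f) x) = G.map (Adeq.ptHom f) (φ B x))
    (hadd : ∀ (B : Adeq.Alg A) (x y : F.obj (Adeq.pt B)), φ B (x + y) = φ B x + φ B y)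
    (hunit : ∀ (B : Adeq.Alg A) (v : (B : Type u)ˣ) (x : F.obj (Adeq.pt B)),
      φ B ((v : B) • x) = (v : B) • φ B x)
    (hG : ∀ ⦃B B' : Adeq.Alg A⦄ (f : B ⟶ B'), f.hom.toRingHom.Flat → IsIso (G.bc f))
    (B : Adeq.Alg A) (b : B) (x : F.obj (Adeq.pt B)) : φ B (b • x) = b • φ B x := by
  have hinj := map_injective_aux G B b (hG (auxHom B b) (auxHom_flat B b))
  apply hinj
  rw [← hnat, map_smul', map_smul', ← hnat]
  -- notation
  set ξ : F.obj (Adeq.pt (auxObj B b)) := F.map (Adeq.ptHom (auxHom B b)) x with hξ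
  set β : Aux B b := (auxHom B b).hom b with hβ
  obtain ⟨uX, huX⟩ := isUnit_X B b
  obtain ⟨u2, hu2⟩ := isUnit_one_add B b
  have hβ' : β = algebraMap B[X] (Aux B b) (C b) := by
    rw [hβ]
    show algebraMap B (Aux B b) b = _
    rw [IsScalarTower.algebraMap_apply B B[X] (Aux B b)]
    rfl
  have hu2' : (u2 : Aux B b) = 1 + β * (uX : Aux B b) := by
    rw [hu2, huX, hβ', map_add, map_one, map_mul]
  -- step 1
  have h1 : φ (auxObj B b) ((β * (uX : Aux B b)) • ξ) = (β * (uX : Aux B b)) • φ (auxObj B b) ξ := by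
    have h2 := hunit (auxObj B b) u2 ξ
    have h3 : ((u2 : Aux B b) • ξ : F.obj (Adeq.pt (auxObj B b))) =
        ξ + (β * (uX : Aux B b)) • ξ := by
      rw [hu2', add_smul, one_smul]
    have h4 : ((u2 : Aux B b) • φ (auxObj B b) ξ : G.obj (Adeq.pt (auxObj B b))) =
        φ (auxObj B b) ξ + (β * (uX : Aux B b)) • φ (auxObj B b) ξ := by
      rw [hu2', add_smul, one_smul]
    rw [h3, hadd, h4] at h2
    exact add_left_cancel h2
  -- step 2
  have h5 := hunit (auxObj B b) uX (β • ξ)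
  have h6 : ((uX : Aux B b) • (β • ξ) : F.obj (Adeq.pt (auxObj B b))) =
      (β * (uX : Aux B b)) • ξ := by
    rw [← mul_smul, mul_comm]
  have h7 : ((β * (uX : Aux B b)) • φ (auxObj B b) ξ : G.obj (Adeq.pt (auxObj B b))) =
      (uX : Aux B b) • (β • φ (auxObj B b) ξ) := by
    rw [← mul_smul, mul_comm]
  rw [h6, h1, h7] at h5
  have h8 := congrArg (fun z => ((uX⁻¹ : (Aux B b)ˣ) : Aux B b) • z) h5
  simp only [← mul_smul, ← mul_assoc, Units.inv_mul, one_mul, one_smul] at h8
  exact h8.symm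

end Groth.Agent.Lib.Helper6.Adeq
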