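import Mathlib
import Groth.Prelude.Def_Adeq
import Groth.Agent.Lib.Helper6.Adeq.Units

/-!
# Flat base change for adequate functors (S8740)
-/

set_option linter.unusedSectionVars false
set_option linter.unusedVariables false
set_option linter.unusedSimpArgs false
set_option autoImplicit false
set_option linter.style.haveILetI false
set_option maxHeartbeats 400000

universe u v

open CategoryTheory Limits TensorProduct

namespace Groth.Agent.Lib.Helper6.Adeq

open ChangeOfRings

section General

variable {C : Type*} [Category C] {R : Cᵒᵖ ⥤ RingCat.{u}}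

theorem gen_kernel_app_injective {F G : PresheafOfModules.{v} R} (k : F ⟶ G) [Mono k] (X : Cᵒᵖ) :
    Function.Injective (k.app X) := by
  have : Mono ((PresheafOfModules.evaluation.{v} R X).map k) := inferInstance
  exact (ModuleCat.mono_iff_injective _).mp this

theorem gen_kernel_app_exact {F G : PresheafOfModules.{v} R} (w : F ⟶ G) (X : Cᵒᵖ)
    (x : F.obj X) (hx : w.app X x = 0) :
    ∃ k : (kernel w).obj X, (kernel.ι w).app X k = x := by
  let S : ShortComplex (PresheafOfModules.{v} R) :=
    ShortComplex.mk (kernel.ι w) w (kernel.condition w)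
  have hS : S.Exact := S.exact_of_f_is_kernel (kernelIsKernel w)
  have hS' := hS.map (PresheafOfModules.evaluation.{v} R X)
  rw [ShortComplex.moduleCat_exact_iff] at hS'
  exact hS' x hx

end General

variable {A : Type u} [CommRing A]

noncomputable def tm (G : Adeq.MVF A) {B B' : Adeq.Alg A} (f : B ⟶ B') (b' : B') (y : G.obj (Adeq.pt B)) :
    ((ModuleCat.extendScalars f.hom.toRingHom).obj (G.obj (Adeq.pt B)) : Type _) :=
  b' ⊗ₜ[B, f.hom.toRingHom] y

theorem tm_smul (G : Adeq.MVF A) {B B' : Adeq.Alg A} (f : B ⟶ B') (c b' : B')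
    (y : G.obj (Adeq.pt B)) : c • tm G f b' y = tm G f (c * b') y :=
  ModuleCat.ExtendScalars.smul_tmul _ _ _ _

theorem bc_tm_one (G : Adeq.MVF A) {B B' : Adeq.Alg A} (f : B ⟶ B')
    (y : G.obj (Adeq.pt B)) : (G.bc f) (tm G f 1 y) = G.map (Adeq.ptHom f) y :=
  bc_one_tmul G f y

theorem bc_tm (G : Adeq.MVF A) {B B' : Adeq.Alg A} (f : B ⟶ B') (b' : B')
    (y : G.obj (Adeq.pt B)) :
    (G.bc f) (tm G f b' y) = b' • G.map (Adeq.ptHom f) y := by
  have h1 : tm G f b' y = b' • tm G f 1 y := by rw [tm_smul, mul_one]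
  rw [h1]
  have h2 := (G.bc f).hom.map_smul b' (tm G f 1 y)
  refine h2.trans ?_
  congr 1
  exact bc_tm_one G f y

theorem map_tm {F G : Adeq.MVF A} (φ : F ⟶ G) {B B' : Adeq.Alg A} (f : B ⟶ B') (b' : B')
    (y : F.obj (Adeq.pt B)) :
    (ModuleCat.extendScalars f.hom.toRingHom).map (φ.app (Adeq.pt B)) (tm F f b' y) =
      tm G f b' (φ.app (Adeq.pt B) y) :=
  ModuleCat.ExtendScalars.map_tmul _ _ _ _

theorem bc_natural {F G : Adeq.MVF A} (φ : F ⟶ G) {B B' : Adeq.Alg A} (f : B ⟶ B') :
    (ModuleCat.extendScalars f.hom.toRingHom).map (φ.app (Adeq.pt B)) ≫ G.bc f =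
      F.bc f ≫ φ.app (Adeq.pt B') := by
  apply ModuleCat.ExtendScalars.hom_ext
  intro m
  change G.bc f ((ModuleCat.extendScalars f.hom.toRingHom).map (φ.app (Adeq.pt B))
    (tm F f 1 m)) = φ.app (Adeq.pt B') (F.bc f (tm F f 1 m))
  rw [map_tm, bc_tm_one, bc_tm_one]
  exact (PresheafOfModules.naturality_apply φ (Adeq.ptHom f) m).symm

theorem bc_natural_apply {F G : Adeq.MVF A} (φ : F ⟶ G) {B B' : Adeq.Alg A} (f : B ⟶ B')
    (z : (ModuleCat.extendScalars f.hom.toRingHom).obj (F.obj (Adeq.pt B))) :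
    G.bc f ((ModuleCat.extendScalars f.hom.toRingHom).map (φ.app (Adeq.pt B)) z) =
      φ.app (Adeq.pt B') (F.bc f z) := by
  have := congrArg (fun k => k z) (bc_natural φ f)
  exact this

/-- pointwise exactness of the kernel sequence. -/
theorem kernel_app_injective {F G : Adeq.MVF A} (w : F ⟶ G) (B : Adeq.Alg A) :
    Function.Injective ((kernel.ι w).app (Adeq.pt B)) :=
  gen_kernel_app_injective (kernel.ι w) (Adeq.pt B)

theorem kernel_app_exact {F G : Adeq.MVF A} (w : F ⟶ G) (B : Adeq.Alg A)
    (x : F.obj (Adeq.pt B)) (hx : w.app (Adeq.pt B) x = 0) :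
    ∃ k : (kernel w).obj (Adeq.pt B), (kernel.ι w).app (Adeq.pt B) k = x :=
  gen_kernel_app_exact w (Adeq.pt B) x hx


theorem tm_add_left (G : Adeq.MVF A) {B B' : Adeq.Alg A} (f : B ⟶ B') (b' c' : B')
    (y : G.obj (Adeq.pt B)) : tm G f (b' + c') y = tm G f b' y + tm G f c' y :=
  TensorProduct.add_tmul _ _ _

theorem tm_add_right (G : Adeq.MVF A) {B B' : Adeq.Alg A} (f : B ⟶ B') (b' : B')
    (y y' : G.obj (Adeq.pt B)) : tm G f b' (y + y') = tm G f b' y + tm G f b' y' :=
  TensorProduct.tmul_add _ _ _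

theorem tm_zero_left (G : Adeq.MVF A) {B B' : Adeq.Alg A} (f : B ⟶ B')
    (y : G.obj (Adeq.pt B)) : tm G f 0 y = 0 :=
  TensorProduct.zero_tmul _ _

theorem tm_zero_right (G : Adeq.MVF A) {B B' : Adeq.Alg A} (f : B ⟶ B') (b' : B') :
    tm G f b' (0 : G.obj (Adeq.pt B)) = 0 :=
  TensorProduct.tmul_zero _ _

theorem tm_smul_right (G : Adeq.MVF A) {B B' : Adeq.Alg A} (f : B ⟶ B') (b' : B') (b : B)
    (y : G.obj (Adeq.pt B)) : tm G f b' (b • y) = tm G f (f.hom b * b') y :=
  (TensorProduct.smul_tmul (R := B) (R' := B) (M := ((ModuleCat.restrictScalars f.hom.toRingHom).obj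
    (ModuleCat.of B' B'))) (N := G.obj (Adeq.pt B)) b b' y).symm

theorem tm_induction (G : Adeq.MVF A) {B B' : Adeq.Alg A} (f : B ⟶ B')
    {P : ((ModuleCat.extendScalars f.hom.toRingHom).obj (G.obj (Adeq.pt B)) : Type _) → Prop}
    (h0 : P 0) (ht : ∀ b' y, P (tm G f b' y)) (ha : ∀ z w, P z → P w → P (z + w))
    (z : (ModuleCat.extendScalars f.hom.toRingHom).obj (G.obj (Adeq.pt B))) : P z := by
  induction z using TensorProduct.induction_on with
  | zero => exact h0
  | tmul b' y => exact ht b' y
  | add z w hz hw => exact ha z w hz hw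

section Underline

variable (M : ModuleCat.{u + 1} A)

/-- pure tensors in `underline M`. -/
noncomputable def ut (B : Adeq.Alg A) (b : B) (m : M) : ((Adeq.underline A).obj M).obj (Adeq.pt B) :=
  b ⊗ₜ[A] m

theorem ut_smul (B : Adeq.Alg A) (c b : B) (m : M) : c • ut M B b m = ut M B (c * b) m :=
  TensorProduct.smul_tmul' _ _ _

theorem ut_add_left (B : Adeq.Alg A) (b c : B) (m : M) : ut M B (b + c) m = ut M B b m + ut M B c m :=
  TensorProduct.add_tmul _ _ _

theorem ut_add_right (B : Adeq.Alg A) (b : B) (m m' : M) :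
    ut M B b (m + m') = ut M B b m + ut M B b m' :=
  TensorProduct.tmul_add _ _ _

theorem ut_zero_left (B : Adeq.Alg A) (m : M) : ut M B 0 m = 0 := TensorProduct.zero_tmul _ _

theorem ut_zero_right (B : Adeq.Alg A) (b : B) : ut M B b 0 = 0 := TensorProduct.tmul_zero _ _

theorem ut_smul_right (B : Adeq.Alg A) (b : B) (a : A) (m : M) :
    ut M B b (a • m) = ut M B (a • b) m :=
  (TensorProduct.smul_tmul a b m).symm

theorem ut_induction (B : Adeq.Alg A)
    {P : (((Adeq.underline A).obj M).obj (Adeq.pt B) : Type _) → Prop}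
    (h0 : P 0) (ht : ∀ b m, P (ut M B b m)) (ha : ∀ z w, P z → P w → P (z + w))
    (z : ((Adeq.underline A).obj M).obj (Adeq.pt B)) : P z := by
  induction z using TensorProduct.induction_on with
  | zero => exact h0
  | tmul b' y => exact ht b' y
  | add z w hz hw => exact ha z w hz hw

theorem underline_map_ut {B B' : Adeq.Alg A} (f : B ⟶ B') (b : B) (m : M) :
    ((Adeq.underline A).obj M).map (Adeq.ptHom f) (ut M B b m) = ut M B' (f.hom b) m :=
  rfl

theorem underline_app_ut {M N : ModuleCat.{u + 1} A} (φ : M ⟶ N) (B : Adeq.Alg A) (b : B) (m : M) :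
    ((Adeq.underline A).map φ).app (Adeq.pt B) (ut M B b m) = ut N B b (φ m) :=
  rfl

theorem bc_tm_ut {B B' : Adeq.Alg A} (f : B ⟶ B') (b' : B') (b : B) (m : M) :
    ((Adeq.underline A).obj M).bc f (tm _ f b' (ut M B b m)) = ut M B' (b' * f.hom b) m := by
  exact (bc_tm _ f b' (ut M B b m)).trans (ut_smul M B' b' (f.hom b) m)

/-- the inverse of `bc` for `underline M`. -/
noncomputable def bcInv {B B' : Adeq.Alg A} (f : B ⟶ B') :
    (((Adeq.underline A).obj M).obj (Adeq.pt B') : Type _) →+
      ((ModuleCat.extendScalars f.hom.toRingHom).obj (((Adeq.underline A).obj M).obj (Adeq.pt B)) :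
        Type _) :=
  TensorProduct.liftAddHom (R := A) (M := B') (N := M)
    { toFun := fun b' =>
        { toFun := fun m => tm ((Adeq.underline A).obj M) f b' (ut M B 1 m)
          map_zero' := by rw [ut_zero_right, tm_zero_right]
          map_add' := fun m m' => by rw [ut_add_right, tm_add_right] }
      map_zero' := by
        ext m
        exact tm_zero_left _ f _
      map_add' := fun b' c' => by
        ext m
        exact tm_add_left _ f _ _ _ }
    (by
      intro a b' m
      change tm ((Adeq.underline A).obj M) f (a • b') (ut M B 1 m) =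
        tm ((Adeq.underline A).obj M) f b' (ut M B 1 (a • m))
      rw [ut_smul_right]
      have h1 : ut M B (a • (1 : B)) m = (algebraMap A B a) • ut M B 1 m := by
        rw [ut_smul, mul_one, Algebra.algebraMap_eq_smul_one]
      rw [h1, tm_smul_right]
      congr 1
      rw [AlgHom.commutes, Algebra.smul_def])

theorem bcInv_ut {B B' : Adeq.Alg A} (f : B ⟶ B') (b' : B') (m : M) :
    bcInv M f (ut M B' b' m) = tm ((Adeq.underline A).obj M) f b' (ut M B 1 m) :=
  rfl

theorem bcInv_bc {B B' : Adeq.Alg A} (f : B ⟶ B')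
    (z : (ModuleCat.extendScalars f.hom.toRingHom).obj (((Adeq.underline A).obj M).obj (Adeq.pt B))) :
    bcInv M f (((Adeq.underline A).obj M).bc f z) = z := by
  induction z using tm_induction with
  | h0 => rw [map_zero, map_zero]
  | ha z w hz hw => rw [map_add, map_add, hz, hw]
  | ht b' y =>
    induction y using ut_induction with
    | h0 => rw [tm_zero_right, map_zero, map_zero]
    | ha z w hz hw => rw [tm_add_right, map_add, map_add, hz, hw]
    | ht b m =>
      rw [bc_tm_ut, bcInv_ut]
      have : ut M B b m = b • ut M B 1 m := by rw [ut_smul, mul_one]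
      rw [this, tm_smul_right, mul_comm]

theorem bc_bcInv {B B' : Adeq.Alg A} (f : B ⟶ B')
    (y : ((Adeq.underline A).obj M).obj (Adeq.pt B')) :
    ((Adeq.underline A).obj M).bc f (bcInv M f y) = y := by
  induction y using ut_induction with
  | h0 => rw [map_zero, map_zero]
  | ha z w hz hw => rw [map_add, map_add, hz, hw]
  | ht b' m => rw [bcInv_ut, bc_tm_ut, map_one, mul_one]

theorem bc_underline_bijective {B B' : Adeq.Alg A} (f : B ⟶ B') :
    Function.Bijective (((Adeq.underline A).obj M).bc f) :=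
  ⟨Function.LeftInverse.injective (bcInv_bc M f), Function.RightInverse.surjective (bc_bcInv M f)⟩

end Underline


section Flat

theorem ext_map_injective {F G : Adeq.MVF A} {B B' : Adeq.Alg A} (f : B ⟶ B')
    (hf : f.hom.toRingHom.Flat) (g : F.obj (Adeq.pt B) ⟶ G.obj (Adeq.pt B))
    (hg : Function.Injective g) :
    Function.Injective ((ModuleCat.extendScalars f.hom.toRingHom).map g) := by
  haveI : Module.Flat B ((ModuleCat.restrictScalars f.hom.toRingHom).obj (ModuleCat.of B' B')) := hf
  exact Module.Flat.lTensor_preserves_injective_linearMap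
    (M := ((ModuleCat.restrictScalars f.hom.toRingHom).obj (ModuleCat.of B' B'))) g.hom hg

theorem ext_map_exact {F G H : Adeq.MVF A} {B B' : Adeq.Alg A} (f : B ⟶ B')
    (hf : f.hom.toRingHom.Flat) (g : F.obj (Adeq.pt B) ⟶ G.obj (Adeq.pt B))
    (h : G.obj (Adeq.pt B) ⟶ H.obj (Adeq.pt B))
    (hgh : ∀ x, h x = 0 → ∃ k, g k = x) (hgh0 : ∀ k, h (g k) = 0)
    (x : (ModuleCat.extendScalars f.hom.toRingHom).obj (G.obj (Adeq.pt B)))
    (hx : (ModuleCat.extendScalars f.hom.toRingHom).map h x = 0) :
    ∃ k, (ModuleCat.extendScalars f.hom.toRingHom).map g k = x := by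
  haveI : Module.Flat B ((ModuleCat.restrictScalars f.hom.toRingHom).obj (ModuleCat.of B' B')) := hf
  have hex : Function.Exact g.hom h.hom := by
    intro x
    constructor
    · intro hx
      exact hgh x hx
    · rintro ⟨k, rfl⟩
      exact hgh0 k
  have := Module.Flat.lTensor_exact
    ((ModuleCat.restrictScalars f.hom.toRingHom).obj (ModuleCat.of B' B')) hex
  exact (this x).mp hx

end Flat

theorem bc_kernel_bijective {M N : ModuleCat.{u + 1} A} (φ : M ⟶ N) {B B' : Adeq.Alg A}
    (f : B ⟶ B') (hf : f.hom.toRingHom.Flat) :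
    Function.Bijective ((kernel ((Adeq.underline A).map φ)).bc f) := by
  set w := (Adeq.underline A).map φ with hw
  constructor
  · intro z₁ z₂ h
    have h1 : ((Adeq.underline A).obj M).bc f
        ((ModuleCat.extendScalars f.hom.toRingHom).map ((kernel.ι w).app (Adeq.pt B)) z₁) =
        ((Adeq.underline A).obj M).bc f
        ((ModuleCat.extendScalars f.hom.toRingHom).map ((kernel.ι w).app (Adeq.pt B)) z₂) := by
      rw [bc_natural_apply, bc_natural_apply, h]
    have h2 := (bc_underline_bijective M f).injective h1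
    exact ext_map_injective f hf _ (kernel_app_injective w B) h2
  · intro y
    obtain ⟨x, hx⟩ := (bc_underline_bijective M f).surjective ((kernel.ι w).app (Adeq.pt B') y)
    have h1 : (ModuleCat.extendScalars f.hom.toRingHom).map (w.app (Adeq.pt B)) x = 0 := by
      apply (bc_underline_bijective N f).injective
      rw [bc_natural_apply, hx]
      have : w.app (Adeq.pt B') ((kernel.ι w).app (Adeq.pt B') y) = 0 := by
        have := congrArg (fun k => k.app (Adeq.pt B') y) (kernel.condition w)
        exact this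
      rw [this, map_zero]
    obtain ⟨z, hz⟩ := ext_map_exact f hf ((kernel.ι w).app (Adeq.pt B)) (w.app (Adeq.pt B))
      (kernel_app_exact w B) (fun k => by
        have := congrArg (fun k' => k'.app (Adeq.pt B) k) (kernel.condition w)
        exact this) x h1
    refine ⟨z, ?_⟩
    apply kernel_app_injective w B'
    rw [← bc_natural_apply, hz, hx]

theorem bc_isIso_of_adequate (F : Adeq.MVF A) (hF : Adeq.adequate A F)
    {B B' : Adeq.Alg A} (f : B ⟶ B') (hf : f.hom.toRingHom.Flat) : IsIso (F.bc f) := by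
  obtain ⟨M, N, φ, ⟨i⟩⟩ := hF
  have e1 : IsIso ((kernel ((Adeq.underline A).map φ)).bc f) :=
    (ConcreteCategory.isIso_iff_bijective _).mpr (bc_kernel_bijective φ f hf)
  have e2 := bc_natural i.hom f
  have hiso : ∀ X, IsIso (i.hom.app X) := fun X =>
    ⟨i.inv.app X, by
      rw [← PresheafOfModules.comp_app, i.hom_inv_id]; rfl, by
      rw [← PresheafOfModules.comp_app, i.inv_hom_id]; rfl⟩
  haveI := hiso (Adeq.pt B)
  haveI := hiso (Adeq.pt B')
  haveI : IsIso (F.bc f ≫ i.hom.app (Adeq.pt B')) := by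
    rw [← e2]
    infer_instance
  exact IsIso.of_isIso_comp_right (F.bc f) (i.hom.app (Adeq.pt B'))

end Groth.Agent.Lib.Helper6.Adeq
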