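import Mathlib
import Groth.Prelude.Def_Adeq
import Groth.Agent.Lib.Helper6.Adeq.FlatBC

/-!
# Pointwise criterion for being a kernel; adequate functors via pointwise exactness
-/

set_option linter.unusedSectionVars false
set_option linter.unusedVariables false
set_option linter.unusedSimpArgs false
set_option autoImplicit false
set_option linter.style.haveILetI false
set_option maxHeartbeats 400000

universe u v

open CategoryTheory Limits TensorProduct

namespace Groth.Agent.Lib.Helper6.Adeq

section General

variable {C : Type*} [Category C] {R : Cᵒᵖ ⥤ RingCat.{u}}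

theorem gen_iso_kernel_of_pointwise {F G H : PresheafOfModules.{v} R} (j : F ⟶ G) (w : G ⟶ H)
    (hjw : j ≫ w = 0) (hinj : ∀ X, Function.Injective (j.app X))
    (hex : ∀ X (x : G.obj X), w.app X x = 0 → ∃ k, j.app X k = x) :
    Nonempty (F ≅ kernel w) := by
  let l : F ⟶ kernel w := kernel.lift w j hjw
  have hl : l ≫ kernel.ι w = j := kernel.lift_ι w j hjw
  have hl' : ∀ X (k : F.obj X), (kernel.ι w).app X (l.app X k) = j.app X k := by
    intro X k
    have := congrArg (fun t => t.app X k) hl
    exact this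
  have hι : ∀ X, Function.Injective ((kernel.ι w).app X) := fun X =>
    gen_kernel_app_injective (kernel.ι w) X
  haveI : Mono l := by
    apply PresheafOfModules.mono_of_injective
    intro X a b hab
    apply hinj X
    rw [← hl', ← hl', hab]
  haveI : Epi l := by
    apply PresheafOfModules.epi_of_surjective
    intro X k
    have h0 : w.app X ((kernel.ι w).app X k) = 0 := by
      have := congrArg (fun t => t.app X k) (kernel.condition w)
      exact this
    obtain ⟨k', hk'⟩ := hex X _ h0
    refine ⟨k', ?_⟩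
    apply hι X
    rw [hl', hk']
  haveI : IsIso l := isIso_of_mono_of_epi l
  exact ⟨asIso l⟩

end General

variable {A : Type u} [CommRing A]

theorem adequate_of_pointwise (F : Adeq.MVF A) {M N : ModuleCat.{u + 1} A} (φ : M ⟶ N)
    (j : F ⟶ (Adeq.underline A).obj M) (hjw : j ≫ (Adeq.underline A).map φ = 0)
    (hinj : ∀ B : Adeq.Alg A, Function.Injective (j.app (Adeq.pt B)))
    (hex : ∀ (B : Adeq.Alg A) (x : ((Adeq.underline A).obj M).obj (Adeq.pt B)),
      ((Adeq.underline A).map φ).app (Adeq.pt B) x = 0 → ∃ k, j.app (Adeq.pt B) k = x) :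
    Adeq.adequate A F := by
  refine ⟨M, N, φ, ?_⟩
  apply gen_iso_kernel_of_pointwise j _ hjw
  · intro X
    exact hinj X.unop.unop
  · intro X x hx
    exact hex X.unop.unop x hx

/-- Conversely, an adequate functor has a pointwise exact presentation. -/
theorem pointwise_of_adequate (F : Adeq.MVF A) (hF : Adeq.adequate A F) :
    ∃ (M N : ModuleCat.{u + 1} A) (φ : M ⟶ N) (j : F ⟶ (Adeq.underline A).obj M),
      j ≫ (Adeq.underline A).map φ = 0 ∧
      (∀ B : Adeq.Alg A, Function.Injective (j.app (Adeq.pt B))) ∧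
      (∀ (B : Adeq.Alg A) (x : ((Adeq.underline A).obj M).obj (Adeq.pt B)),
        ((Adeq.underline A).map φ).app (Adeq.pt B) x = 0 → ∃ k, j.app (Adeq.pt B) k = x) := by
  obtain ⟨M, N, φ, ⟨i⟩⟩ := hF
  refine ⟨M, N, φ, i.hom ≫ kernel.ι _, ?_, ?_, ?_⟩
  · rw [Category.assoc, kernel.condition, comp_zero]
  · intro B a b hab
    have h1 : ∀ t, (i.hom ≫ kernel.ι ((Adeq.underline A).map φ)).app (Adeq.pt B) t =
        (kernel.ι ((Adeq.underline A).map φ)).app (Adeq.pt B) (i.hom.app (Adeq.pt B) t) :=
      fun t => rfl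
    rw [h1, h1] at hab
    have h2 := kernel_app_injective _ B hab
    have h3 : ∀ t, i.inv.app (Adeq.pt B) (i.hom.app (Adeq.pt B) t) = t := by
      intro t
      have := congrArg (fun s => s.app (Adeq.pt B) t) i.hom_inv_id
      exact this
    rw [← h3 a, ← h3 b, h2]
  · intro B x hx
    obtain ⟨k, hk⟩ := kernel_app_exact _ B x hx
    refine ⟨i.inv.app (Adeq.pt B) k, ?_⟩
    have h3 : i.hom.app (Adeq.pt B) (i.inv.app (Adeq.pt B) k) = k := by
      have := congrArg (fun s => s.app (Adeq.pt B) k) i.inv_hom_id
      exact this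
    change (kernel.ι ((Adeq.underline A).map φ)).app (Adeq.pt B)
      (i.hom.app (Adeq.pt B) (i.inv.app (Adeq.pt B) k)) = x
    rw [h3, hk]

end Groth.Agent.Lib.Helper6.Adeq
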