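import Mathlib
import Groth.Prelude.Def_Adeq
import Groth.Agent.Lib.Helper6.Adeq.Pointwise

/-!
# Restriction of adequate functors along `A → A'` (S8749)
-/

set_option linter.unusedSectionVars false
set_option linter.unusedVariables false
set_option linter.unusedSimpArgs false
set_option autoImplicit false
set_option linter.style.haveILetI false
set_option maxHeartbeats 400000

universe u v

open CategoryTheory Limits TensorProduct

namespace Groth.Agent.Lib.Helper6.Adeq

section Unbundled

variable (A A' : Type u) [CommRing A] [CommRing A'] [Algebra A A']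
  (B' : Type u) [CommRing B'] [Algebra A' B']
  (M : Type v) [AddCommGroup M] [Module A M]

/-- the composite algebra structure. -/
abbrev compAlg : Algebra A B' := ((algebraMap A' B').comp (algebraMap A A')).toAlgebra

/-- `B' ⊗[A] M ≃ B' ⊗[A'] (A' ⊗[A] M)`. -/
noncomputable def θeq :
    letI := compAlg A A' B'
    B' ⊗[A] M ≃+ B' ⊗[A'] (A' ⊗[A] M) :=
  letI := compAlg A A' B'
  haveI : IsScalarTower A A' B' := IsScalarTower.of_algebraMap_eq (fun _ => rfl)
  (TensorProduct.AlgebraTensorModule.cancelBaseChange A A' B' B' M).symm.toAddEquiv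

theorem θeq_tmul (b' : B') (m : M) :
    letI := compAlg A A' B'
    θeq A A' B' M (b' ⊗ₜ[A] m) = b' ⊗ₜ[A'] ((1 : A') ⊗ₜ[A] m) := rfl

theorem θeq_smul (c : B') :
    letI := compAlg A A' B'
    ∀ (x : B' ⊗[A] M), θeq A A' B' M (c • x) = c • θeq A A' B' M x := by
  letI := compAlg A A' B'
  haveI : IsScalarTower A A' B' := IsScalarTower.of_algebraMap_eq (fun _ => rfl)
  intro x
  exact (TensorProduct.AlgebraTensorModule.cancelBaseChange A A' B' B' M).symm.map_smul c x

end Unbundled


section Bundled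

variable (A A' : Type u) [CommRing A] [CommRing A'] [Algebra A A'] (M : ModuleCat.{u + 1} A)

/-- base change of a module as an object. -/
noncomputable abbrev bcM : ModuleCat.{u + 1} A' := ModuleCat.of A' (A' ⊗[A] M)

/-- base change of a linear map. -/
noncomputable def bcMap {M N : ModuleCat.{u + 1} A} (φ : M ⟶ N) : bcM A A' M ⟶ bcM A A' N :=
  ModuleCat.ofHom (φ.hom.baseChange A')

theorem bcMap_tmul {M N : ModuleCat.{u + 1} A} (φ : M ⟶ N) (a' : A') (m : M) :
    bcMap A A' φ (a' ⊗ₜ[A] m) = a' ⊗ₜ[A] φ m := rfl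

/-- the underlying function of `θ` at `B'`. -/
noncomputable def θfun (B' : Adeq.Alg A') :
    (((Adeq.restr A A').obj ((Adeq.underline A).obj M)).obj (Adeq.pt B') : Type _) →+
      (((Adeq.underline A').obj (bcM A A' M)).obj (Adeq.pt B') : Type _) :=
  (θeq A A' B' M).toAddMonoidHom

/-- pure tensors in the restriction. -/
noncomputable def rt (B' : Adeq.Alg A') (b' : B') (m : M) :
    ((Adeq.restr A A').obj ((Adeq.underline A).obj M)).obj (Adeq.pt B') :=
  ut M ((Adeq.Alg.restr A A').obj B') b' m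

theorem θfun_rt (B' : Adeq.Alg A') (b' : B') (m : M) :
    θfun A A' M B' (rt A A' M B' b' m) = ut (bcM A A' M) B' b' ((1 : A') ⊗ₜ[A] m) := rfl

theorem θfun_bijective (B' : Adeq.Alg A') : Function.Bijective (θfun A A' M B') :=
  (θeq A A' B' M).bijective

theorem rt_induction (B' : Adeq.Alg A')
    {P : (((Adeq.restr A A').obj ((Adeq.underline A).obj M)).obj (Adeq.pt B') : Type _) → Prop}
    (h0 : P 0) (ht : ∀ b m, P (rt A A' M B' b m)) (ha : ∀ z w, P z → P w → P (z + w))
    (z : ((Adeq.restr A A').obj ((Adeq.underline A).obj M)).obj (Adeq.pt B')) : P z :=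
  ut_induction M ((Adeq.Alg.restr A A').obj B') (P := P) h0 ht ha z

theorem restr_map_rt {B' C' : Adeq.Alg A'} (g : B' ⟶ C') (b' : B') (m : M) :
    ((Adeq.restr A A').obj ((Adeq.underline A).obj M)).map (Adeq.ptHom g) (rt A A' M B' b' m) =
      rt A A' M C' (g.hom b') m := rfl

theorem restr_app_rt {M N : ModuleCat.{u + 1} A} (φ : M ⟶ N) (B' : Adeq.Alg A') (b' : B') (m : M) :
    ((Adeq.restr A A').map ((Adeq.underline A).map φ)).app (Adeq.pt B') (rt A A' M B' b' m) =
      rt A A' N B' b' (φ m) := rfl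


theorem θfun_smul (B' : Adeq.Alg A') (c : B')
    (x : ((Adeq.restr A A').obj ((Adeq.underline A).obj M)).obj (Adeq.pt B')) :
    θfun A A' M B' (c • x) = c • θfun A A' M B' x :=
  θeq_smul A A' B' M c x

/-- transition maps as additive maps between clean types. -/
noncomputable def mapAdd {A : Type u} [CommRing A] (F : Adeq.MVF A) {B C : Adeq.Alg A} (g : B ⟶ C) :
    (F.obj (Adeq.pt B) : Type _) →+ (F.obj (Adeq.pt C) : Type _) where
  toFun x := F.map (Adeq.ptHom g) x
  map_zero' := (F.map (Adeq.ptHom g)).hom.map_zero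
  map_add' := (F.map (Adeq.ptHom g)).hom.map_add

theorem mapAdd_apply {A : Type u} [CommRing A] (F : Adeq.MVF A) {B C : Adeq.Alg A} (g : B ⟶ C)
    (x : F.obj (Adeq.pt B)) : mapAdd F g x = F.map (Adeq.ptHom g) x := rfl

/-- components as additive maps between clean types. -/
noncomputable def appAdd {A : Type u} [CommRing A] {F G : Adeq.MVF A} (α : F ⟶ G) (B : Adeq.Alg A) :
    (F.obj (Adeq.pt B) : Type _) →+ (G.obj (Adeq.pt B) : Type _) where
  toFun x := α.app (Adeq.pt B) x
  map_zero' := (α.app (Adeq.pt B)).hom.map_zero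
  map_add' := (α.app (Adeq.pt B)).hom.map_add

theorem appAdd_apply {A : Type u} [CommRing A] {F G : Adeq.MVF A} (α : F ⟶ G) (B : Adeq.Alg A)
    (x : F.obj (Adeq.pt B)) : appAdd α B x = α.app (Adeq.pt B) x := rfl

theorem θfun_nat {B' C' : Adeq.Alg A'} (g : B' ⟶ C')
    (x : ((Adeq.restr A A').obj ((Adeq.underline A).obj M)).obj (Adeq.pt B')) :
    θfun A A' M C' (mapAdd ((Adeq.restr A A').obj ((Adeq.underline A).obj M)) g x) =
      mapAdd ((Adeq.underline A').obj (bcM A A' M)) g (θfun A A' M B' x) := by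
  induction x using rt_induction with
  | h0 => rw [map_zero, map_zero, map_zero, map_zero]
  | ha z w hz hw => rw [map_add, map_add, map_add, map_add, hz, hw]
  | ht b m => rfl

theorem θfun_nat' {M N : ModuleCat.{u + 1} A} (φ : M ⟶ N) (B' : Adeq.Alg A')
    (x : ((Adeq.restr A A').obj ((Adeq.underline A).obj M)).obj (Adeq.pt B')) :
    θfun A A' N B' (appAdd ((Adeq.restr A A').map ((Adeq.underline A).map φ)) B' x) =
      appAdd ((Adeq.underline A').map (bcMap A A' φ)) B' (θfun A A' M B' x) := by
  induction x using rt_induction with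
  | h0 => rw [map_zero, map_zero, map_zero, map_zero]
  | ha z w hz hw => rw [map_add, map_add, map_add, map_add, hz, hw]
  | ht b m => rfl

/-- the comparison morphism `restr (underline M) ⟶ underline (A' ⊗ M)`. -/
noncomputable def θ : (Adeq.restr A A').obj ((Adeq.underline A).obj M) ⟶
    (Adeq.underline A').obj (bcM A A' M) where
  app X := ModuleCat.ofHom
    { toFun := θfun A A' M X.unop.unop
      map_add' := map_add _
      map_smul' := fun c x => θfun_smul A A' M X.unop.unop c x }
  naturality {X Y} f := by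
    ext x
    exact θfun_nat A A' M f.unop.unop x

theorem θ_app (B' : Adeq.Alg A')
    (x : ((Adeq.restr A A').obj ((Adeq.underline A).obj M)).obj (Adeq.pt B')) :
    (θ A A' M).app (Adeq.pt B') x = θfun A A' M B' x := rfl

theorem θ_natural {M N : ModuleCat.{u + 1} A} (φ : M ⟶ N) :
    (Adeq.restr A A').map ((Adeq.underline A).map φ) ≫ θ A A' N =
      θ A A' M ≫ (Adeq.underline A').map (bcMap A A' φ) := by
  ext X x
  exact θfun_nat' A A' φ X.unop.unop x


theorem restr_adequate (F : Adeq.MVF A) (hF : Adeq.adequate A F) :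
    Adeq.adequate A' ((Adeq.restr A A').obj F) := by
  obtain ⟨M, N, φ, j, hjw, hinj, hex⟩ := pointwise_of_adequate F hF
  set w := (Adeq.underline A).map φ with hw
  set jR := (Adeq.restr A A').map j with hjR
  set wR := (Adeq.restr A A').map w with hwR
  have hjw' : ∀ (B : Adeq.Alg A) (a : F.obj (Adeq.pt B)),
      w.app (Adeq.pt B) (j.app (Adeq.pt B) a) = 0 := by
    intro B a
    have := congrArg (fun t => t.app (Adeq.pt B) a) hjw
    exact this
  -- restr-level facts
  have r1 : ∀ (B' : Adeq.Alg A'), Function.Injective (appAdd jR B') := fun B' =>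
    hinj ((Adeq.Alg.restr A A').obj B')
  have r2 : ∀ (B' : Adeq.Alg A')
      (x₀ : ((Adeq.restr A A').obj ((Adeq.underline A).obj M)).obj (Adeq.pt B')),
      appAdd wR B' x₀ = 0 → ∃ k, appAdd jR B' k = x₀ := fun B' x₀ h =>
    hex ((Adeq.Alg.restr A A').obj B') x₀ h
  have r3 : ∀ (B' : Adeq.Alg A') (a : ((Adeq.restr A A').obj F).obj (Adeq.pt B')),
      appAdd wR B' (appAdd jR B' a) = 0 := fun B' a =>
    hjw' ((Adeq.Alg.restr A A').obj B') a
  have key1 : ∀ (B' : Adeq.Alg A') (a : ((Adeq.restr A A').obj F).obj (Adeq.pt B')),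
      (jR ≫ θ A A' M).app (Adeq.pt B') a = θfun A A' M B' (appAdd jR B' a) := fun B' a => rfl
  have key2 : ∀ (B' : Adeq.Alg A')
      (x₀ : ((Adeq.restr A A').obj ((Adeq.underline A).obj M)).obj (Adeq.pt B')),
      ((Adeq.underline A').map (bcMap A A' φ)).app (Adeq.pt B') (θfun A A' M B' x₀) =
        θfun A A' N B' (appAdd wR B' x₀) := fun B' x₀ =>
    (θfun_nat' A A' φ B' x₀).symm
  apply adequate_of_pointwise ((Adeq.restr A A').obj F) (bcMap A A' φ) (jR ≫ θ A A' M)
  · ext X a
    exact (key2 X.unop.unop (appAdd jR X.unop.unop a)).trans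
      ((congrArg (θfun A A' N X.unop.unop) (r3 X.unop.unop a)).trans (map_zero _))
  · intro B' a b hab
    have hab' : θfun A A' M B' (appAdd jR B' a) = θfun A A' M B' (appAdd jR B' b) :=
      (key1 B' a).symm.trans (hab.trans (key1 B' b))
    exact r1 B' ((θfun_bijective A A' M B').injective hab')
  · intro B' x hx
    obtain ⟨x₀, rfl⟩ := (θfun_bijective A A' M B').surjective x
    have hx' : θfun A A' N B' (appAdd wR B' x₀) = 0 := (key2 B' x₀).symm.trans hx
    have hx0 : appAdd wR B' x₀ = 0 := by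
      apply (θfun_bijective A A' N B').injective
      rw [hx', map_zero]
    obtain ⟨k, hk⟩ := r2 B' x₀ hx0
    refine ⟨k, ?_⟩
    exact (key1 B' k).trans (congrArg (θfun A A' M B') hk)

end Bundled

end Groth.Agent.Lib.Helper6.Adeq
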