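import Mathlib
import Groth.Prelude.Def_Adeq
import Groth.Agent.Lib.Helper6.Adeq.Restr

/-!
# Pushforward of adequate functors along `A → A'` (S8750)
-/

set_option linter.unusedSectionVars false
set_option linter.unusedVariables false
set_option linter.unusedSimpArgs false
set_option autoImplicit false
set_option linter.style.haveILetI false
set_option maxHeartbeats 400000

universe u v

open CategoryTheory Limits TensorProduct

namespace Groth.Agent.Lib.Helper6.Adeq

section Unbundled

variable (A A' : Type u) [CommRing A] [CommRing A'] [Algebra A A']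
  (B : Type u) [CommRing B] [Algebra A B]
  (M' : Type v) [AddCommGroup M'] [Module A' M']

/-- `B ⊗[A] M' ≃ (A' ⊗[A] B) ⊗[A'] M'`. -/
noncomputable def ζeq :
    letI : Module A M' := Module.compHom M' (algebraMap A A')
    B ⊗[A] M' ≃+ (A' ⊗[A] B) ⊗[A'] M' :=
  letI : Module A M' := Module.compHom M' (algebraMap A A')
  haveI : IsScalarTower A A' M' := ⟨fun a a' m => by
    change (a • a') • m = (algebraMap A A' a) • (a' • m)
    rw [Algebra.smul_def, mul_smul]⟩
  ((TensorProduct.comm A B M').toAddEquiv.trans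
    (TensorProduct.AlgebraTensorModule.cancelBaseChange A A' A' M' B).symm.toAddEquiv).trans
    (TensorProduct.comm A' M' (A' ⊗[A] B)).toAddEquiv

theorem ζeq_tmul (b : B) (m : M') :
    letI : Module A M' := Module.compHom M' (algebraMap A A')
    ζeq A A' B M' (b ⊗ₜ[A] m) = ((1 : A') ⊗ₜ[A] b) ⊗ₜ[A'] m := rfl

end Unbundled


section Bundled

variable (A A' : Type u) [CommRing A] [CommRing A'] [Algebra A A'] (M' : ModuleCat.{u + 1} A')

/-- restriction of scalars of a module as an object. -/
noncomputable abbrev rsM : ModuleCat.{u + 1} A :=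
  (ModuleCat.restrictScalars (algebraMap A A')).obj M'

/-- restriction of scalars of a linear map. -/
noncomputable def rsMap {M' N' : ModuleCat.{u + 1} A'} (φ' : M' ⟶ N') :
    rsM A A' M' ⟶ rsM A A' N' :=
  (ModuleCat.restrictScalars (algebraMap A A')).map φ'

/-- the comparison bijection at `B`. -/
noncomputable def ζfun (B : Adeq.Alg A) :
    (((Adeq.underline A).obj (rsM A A' M')).obj (Adeq.pt B) : Type _) ≃+
      (((Adeq.push A A').obj ((Adeq.underline A').obj M')).obj (Adeq.pt B) : Type _) :=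
  ζeq A A' B M'

/-- pure tensors `(1 ⊗ b) ⊗ m'` in the pushforward. -/
noncomputable def pt' (B : Adeq.Alg A) (b : B) (m : M') :
    ((Adeq.push A A').obj ((Adeq.underline A').obj M')).obj (Adeq.pt B) :=
  ut M' ((Adeq.Alg.baseChange A A').obj B) ((1 : A') ⊗ₜ[A] b) m

theorem ζfun_ut (B : Adeq.Alg A) (b : B) (m : M') :
    ζfun A A' M' B (ut (rsM A A' M') B b m) = pt' A A' M' B b m := rfl

theorem smul_pt' (B : Adeq.Alg A) (c b : B) (m : M') :
    c • pt' A A' M' B b m = pt' A A' M' B (c * b) m := by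
  have h1 : c • pt' A A' M' B b m =
      ut M' ((Adeq.Alg.baseChange A A').obj B) (((1 : A') ⊗ₜ[A] c) * ((1 : A') ⊗ₜ[A] b)) m :=
    ut_smul M' ((Adeq.Alg.baseChange A A').obj B) ((1 : A') ⊗ₜ[A] c) ((1 : A') ⊗ₜ[A] b) m
  rw [h1]
  have h2 : (((1 : A') ⊗ₜ[A] c) * ((1 : A') ⊗ₜ[A] b) : A' ⊗[A] B) = (1 : A') ⊗ₜ[A] (c * b) := by
    rw [Algebra.TensorProduct.tmul_mul_tmul, one_mul]
  unfold pt'
  congr 1

theorem ζfun_smul (B : Adeq.Alg A) (c : B)
    (x : ((Adeq.underline A).obj (rsM A A' M')).obj (Adeq.pt B)) :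
    ζfun A A' M' B (c • x) = c • ζfun A A' M' B x := by
  induction x using ut_induction with
  | h0 => rw [smul_zero, map_zero, smul_zero]
  | ha z w hz hw => rw [smul_add, map_add, map_add, smul_add, hz, hw]
  | ht b m =>
    rw [ut_smul]
    exact (smul_pt' A A' M' B c b m).symm

theorem ζfun_nat {B C : Adeq.Alg A} (g : B ⟶ C)
    (x : ((Adeq.underline A).obj (rsM A A' M')).obj (Adeq.pt B)) :
    ζfun A A' M' C (mapAdd ((Adeq.underline A).obj (rsM A A' M')) g x) =
      mapAdd ((Adeq.push A A').obj ((Adeq.underline A').obj M')) g (ζfun A A' M' B x) := by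
  induction x using ut_induction with
  | h0 => rw [map_zero, map_zero, map_zero, map_zero]
  | ha z w hz hw => rw [map_add, map_add, map_add, map_add, hz, hw]
  | ht b m => rfl

theorem ζfun_nat' {M' N' : ModuleCat.{u + 1} A'} (φ' : M' ⟶ N') (B : Adeq.Alg A)
    (x : ((Adeq.underline A).obj (rsM A A' M')).obj (Adeq.pt B)) :
    ζfun A A' N' B (appAdd ((Adeq.underline A).map (rsMap A A' φ')) B x) =
      appAdd ((Adeq.push A A').map ((Adeq.underline A').map φ')) B (ζfun A A' M' B x) := by
  induction x using ut_induction with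
  | h0 => rw [map_zero, map_zero, map_zero, map_zero]
  | ha z w hz hw => rw [map_add, map_add, map_add, map_add, hz, hw]
  | ht b m => rfl


theorem ηfun_smul (B : Adeq.Alg A) (c : B)
    (y : ((Adeq.push A A').obj ((Adeq.underline A').obj M')).obj (Adeq.pt B)) :
    (ζfun A A' M' B).symm (c • y) = c • (ζfun A A' M' B).symm y := by
  apply (ζfun A A' M' B).injective
  rw [AddEquiv.apply_symm_apply, ζfun_smul, AddEquiv.apply_symm_apply]

theorem ηfun_nat {B C : Adeq.Alg A} (g : B ⟶ C)
    (y : ((Adeq.push A A').obj ((Adeq.underline A').obj M')).obj (Adeq.pt B)) :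
    (ζfun A A' M' C).symm (mapAdd ((Adeq.push A A').obj ((Adeq.underline A').obj M')) g y) =
      mapAdd ((Adeq.underline A).obj (rsM A A' M')) g ((ζfun A A' M' B).symm y) := by
  apply (ζfun A A' M' C).injective
  rw [AddEquiv.apply_symm_apply, ζfun_nat, AddEquiv.apply_symm_apply]

theorem ηfun_nat' {M' N' : ModuleCat.{u + 1} A'} (φ' : M' ⟶ N') (B : Adeq.Alg A)
    (y : ((Adeq.push A A').obj ((Adeq.underline A').obj M')).obj (Adeq.pt B)) :
    (ζfun A A' N' B).symm (appAdd ((Adeq.push A A').map ((Adeq.underline A').map φ')) B y) =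
      appAdd ((Adeq.underline A).map (rsMap A A' φ')) B ((ζfun A A' M' B).symm y) := by
  apply (ζfun A A' N' B).injective
  rw [AddEquiv.apply_symm_apply, ζfun_nat', AddEquiv.apply_symm_apply]

/-- the comparison morphism `push (underline M') ⟶ underline (M'|_A)`. -/
noncomputable def η : (Adeq.push A A').obj ((Adeq.underline A').obj M') ⟶
    (Adeq.underline A).obj (rsM A A' M') where
  app X := ModuleCat.ofHom
    (X := ((Adeq.push A A').obj ((Adeq.underline A').obj M')).obj X)
    (Y := ((Adeq.underline A).obj (rsM A A' M')).obj X)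
    { toFun := (ζfun A A' M' X.unop.unop).symm
      map_add' := map_add _
      map_smul' := fun c x => ηfun_smul A A' M' X.unop.unop c x }
  naturality {X Y} f := by
    ext x
    exact ηfun_nat A A' M' f.unop.unop x

theorem push_adequate (F' : Adeq.MVF A') (hF' : Adeq.adequate A' F') :
    Adeq.adequate A ((Adeq.push A A').obj F') := by
  obtain ⟨M', N', φ', j, hjw, hinj, hex⟩ := pointwise_of_adequate F' hF'
  set w := (Adeq.underline A').map φ' with hw
  set jP := (Adeq.push A A').map j with hjP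
  set wP := (Adeq.push A A').map w with hwP
  have hjw' : ∀ (B : Adeq.Alg A') (a : F'.obj (Adeq.pt B)),
      w.app (Adeq.pt B) (j.app (Adeq.pt B) a) = 0 := by
    intro B a
    have := congrArg (fun t => t.app (Adeq.pt B) a) hjw
    exact this
  have r1 : ∀ (B : Adeq.Alg A), Function.Injective (appAdd jP B) := fun B =>
    hinj ((Adeq.Alg.baseChange A A').obj B)
  have r2 : ∀ (B : Adeq.Alg A)
      (x₀ : ((Adeq.push A A').obj ((Adeq.underline A').obj M')).obj (Adeq.pt B)),
      appAdd wP B x₀ = 0 → ∃ k, appAdd jP B k = x₀ := fun B x₀ h =>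
    hex ((Adeq.Alg.baseChange A A').obj B) x₀ h
  have r3 : ∀ (B : Adeq.Alg A) (a : ((Adeq.push A A').obj F').obj (Adeq.pt B)),
      appAdd wP B (appAdd jP B a) = 0 := fun B a =>
    hjw' ((Adeq.Alg.baseChange A A').obj B) a
  have key1 : ∀ (B : Adeq.Alg A) (a : ((Adeq.push A A').obj F').obj (Adeq.pt B)),
      (jP ≫ η A A' M').app (Adeq.pt B) a = (ζfun A A' M' B).symm (appAdd jP B a) := fun B a => rfl
  have key2 : ∀ (B : Adeq.Alg A)
      (x₀ : ((Adeq.push A A').obj ((Adeq.underline A').obj M')).obj (Adeq.pt B)),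
      ((Adeq.underline A).map (rsMap A A' φ')).app (Adeq.pt B) ((ζfun A A' M' B).symm x₀) =
        (ζfun A A' N' B).symm (appAdd wP B x₀) := fun B x₀ =>
    (ηfun_nat' A A' φ' B x₀).symm
  apply adequate_of_pointwise ((Adeq.push A A').obj F') (rsMap A A' φ') (jP ≫ η A A' M')
  · ext X a
    exact (key2 X.unop.unop (appAdd jP X.unop.unop a)).trans
      ((congrArg (ζfun A A' N' X.unop.unop).symm (r3 X.unop.unop a)).trans (map_zero _))
  · intro B a b hab
    have hab' : (ζfun A A' M' B).symm (appAdd jP B a) = (ζfun A A' M' B).symm (appAdd jP B b) :=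
      (key1 B a).symm.trans (hab.trans (key1 B b))
    exact r1 B ((ζfun A A' M' B).symm.injective hab')
  · intro B x hx
    obtain ⟨x₀, rfl⟩ := (ζfun A A' M' B).symm.surjective x
    have hx' : (ζfun A A' N' B).symm (appAdd wP B x₀) = 0 := (key2 B x₀).symm.trans hx
    have hx0 : appAdd wP B x₀ = 0 := by
      apply (ζfun A A' N' B).symm.injective
      rw [hx', map_zero]
    obtain ⟨k, hk⟩ := r2 B x₀ hx0
    refine ⟨k, ?_⟩
    exact (key1 B k).trans (congrArg (ζfun A A' M' B).symm hk)

end Bundled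

end Groth.Agent.Lib.Helper6.Adeq
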